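import Cfsg.Agent.Characters.Core

/-!
# Complex spherical functions of permutation representations (helper329)

`G` a finite group acting transitively on the finite set `X`, `K` the stabiliser of `x₀`.

* `Sph` : a `G`-stable space `V` of complex functions on `X` in which the `K`-invariant functions are the
  multiples of `e₀`, `e₀ x₀ = 1`;
* `Sph.exists_irr` : then there is an irreducible character `χ` with
  `(∑ x, |e₀ x| ^ 2) * χ g = ∑ x, e₀ ((s x)⁻¹ • g⁻¹ • x)` (`s x • x₀ = x`) and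
  `∑ q : K, χ (g * q) = |K| * e₀ (g⁻¹ • x₀)`;
* `exists_of_graph`, `exists_of_orbital` : the same from a collapsed adjacency matrix `B` and an eigenvector
  `a : Fin n → ℂ`; the colouring need not be symmetric.
-/

set_option autoImplicit false

namespace Cfsg.Agent.H329.K4.Orb

open Cfsg Cfsg.Agent.Characters.Core Module
open scoped BigOperators ComplexConjugate

universe u

variable {G : Type u} [Group G] {X : Type} [Fintype X] [MulAction G X]

/-- the data of a spherical function -/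
structure Sph (G : Type u) [Group G] {X : Type} [Fintype X] [MulAction G X] (x₀ : X) (V : Submodule ℂ (X → ℂ))
    (e₀ : X → ℂ) : Prop where
  inv : ∀ (g : G), ∀ f ∈ V, (fun x => f (g • x)) ∈ V
  mem : e₀ ∈ V
  fix : ∀ g : G, g • x₀ = x₀ → ∀ x, e₀ (g • x) = e₀ x
  one : e₀ x₀ = 1
  uniq : ∀ f ∈ V, (∀ g : G, g • x₀ = x₀ → ∀ x, f (g • x) = f x) → ∃ c : ℂ, f = c • e₀
  tr : ∀ x : X, ∃ g : G, g • x₀ = x

namespace Sph

variable {x₀ : X} {V : Submodule ℂ (X → ℂ)} {e₀ : X → ℂ}

/-- the norm -/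
noncomputable def SS (e₀ : X → ℂ) : ℂ := ∑ y, e₀ y * conj (e₀ y)

theorem conj_SS (e₀ : X → ℂ) : conj (SS e₀) = SS e₀ := by
  unfold SS
  rw [map_sum]
  refine Finset.sum_congr rfl fun y _ => ?_
  rw [map_mul, Complex.conj_conj, mul_comm]

theorem SS_ne_zero (h : Sph G x₀ V e₀) : SS e₀ ≠ 0 := by
  have h1 : ∀ y, e₀ y * conj (e₀ y) = ((Complex.normSq (e₀ y) : ℝ) : ℂ) := fun y => Complex.mul_conj _
  unfold SS
  rw [Finset.sum_congr rfl fun y _ => h1 y, ← Complex.ofReal_sum]
  intro h0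
  have h2 : ∑ y, Complex.normSq (e₀ y) = 0 := by exact_mod_cast h0
  have h3 := (Finset.sum_eq_zero_iff_of_nonneg fun y _ => Complex.normSq_nonneg _).1 h2 x₀ (Finset.mem_univ _)
  rw [h.one, Complex.normSq_one] at h3
  exact one_ne_zero h3

section avg

variable [Finite G]

theorem avg (h : Sph G x₀ V e₀) [Fintype (MulAction.stabilizer G x₀)] {f : X → ℂ} (hf : f ∈ V) (x : X) :
    ∑ q : MulAction.stabilizer G x₀, f ((q : G) • x) =
      (Fintype.card (MulAction.stabilizer G x₀) : ℂ) * f x₀ * e₀ x := by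
  have h1 : (fun x => ∑ q : MulAction.stabilizer G x₀, f ((q : G) • x)) ∈ V := by
    have h2 : (fun x => ∑ q : MulAction.stabilizer G x₀, f ((q : G) • x)) =
        ∑ q : MulAction.stabilizer G x₀, (fun x => f ((q : G) • x)) := by
      funext x
      rw [Finset.sum_apply]
    rw [h2]
    exact V.sum_mem fun q _ => h.inv _ f hf
  obtain ⟨c, hc⟩ := h.uniq _ h1 (by
    intro g hg x
    refine Fintype.sum_equiv (Equiv.mulRight (⟨g, hg⟩ : MulAction.stabilizer G x₀)) _ _ fun q => ?_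
    show f ((q : G) • g • x) = f (((q * ⟨g, hg⟩ : MulAction.stabilizer G x₀) : G) • x)
    rw [Subgroup.coe_mul, mul_smul])
  have h3 := congrFun hc x₀
  have h4 : ∀ q : MulAction.stabilizer G x₀, f ((q : G) • x₀) = f x₀ := fun q => by
    rw [MulAction.mem_stabilizer_iff.1 q.2]
  simp only [h4, Finset.sum_const, Finset.card_univ, nsmul_eq_mul, Pi.smul_apply, h.one, smul_eq_mul, mul_one] at h3
  have h5 := congrFun hc x
  simp only [Pi.smul_apply, smul_eq_mul] at h5
  rw [h5, h3]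

theorem repr_zero (h : Sph G x₀ V e₀) {f : X → ℂ} (hf : f ∈ V) : ∑ y, f y * conj (e₀ y) = SS e₀ * f x₀ := by
  have : Fintype (MulAction.stabilizer G x₀) := Fintype.ofFinite _
  have hc : (Fintype.card (MulAction.stabilizer G x₀) : ℂ) ≠ 0 := by
    exact_mod_cast Fintype.card_ne_zero
  refine mul_left_cancel₀ hc ?_
  have h1 : ∑ y, (∑ q : MulAction.stabilizer G x₀, f ((q : G) • y)) * conj (e₀ y) =
      (Fintype.card (MulAction.stabilizer G x₀) : ℂ) * ∑ y, f y * conj (e₀ y) := by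
    simp only [Finset.sum_mul]
    rw [Finset.sum_comm]
    have h2 : ∀ q : MulAction.stabilizer G x₀, ∑ y, f ((q : G) • y) * conj (e₀ y) = ∑ y, f y * conj (e₀ y) := by
      intro q
      refine Fintype.sum_equiv (MulAction.toPerm (q : G)) _ _ fun y => ?_
      rw [MulAction.toPerm_apply, h.fix _ (MulAction.mem_stabilizer_iff.1 q.2)]
    simp only [h2, Finset.sum_const, Finset.card_univ, nsmul_eq_mul]
  rw [← h1]
  have h3 : ∀ y, (∑ q : MulAction.stabilizer G x₀, f ((q : G) • y)) * conj (e₀ y) =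
      (Fintype.card (MulAction.stabilizer G x₀) : ℂ) * f x₀ * (e₀ y * conj (e₀ y)) := by
    intro y
    rw [h.avg hf]
    ring
  rw [Finset.sum_congr rfl fun y _ => h3 y, ← Finset.mul_sum]
  unfold SS
  ring

theorem repr_conj (h : Sph G x₀ V e₀) {f : X → ℂ} (hf : f ∈ V) {g : G} {x : X} (hg : g • x₀ = x) :
    ∑ y, f y * conj (e₀ (g⁻¹ • y)) = SS e₀ * f x := by
  have h1 := h.repr_zero (h.inv g f hf)
  rw [hg] at h1
  rw [← h1]
  symm
  refine Fintype.sum_equiv (MulAction.toPerm g) _ _ fun y => ?_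
  rw [MulAction.toPerm_apply, inv_smul_smul]

theorem herm (h : Sph G x₀ V e₀) {g g' : G} {x x' : X} (hg : g • x₀ = x) (hg' : g' • x₀ = x') :
    e₀ (g⁻¹ • x') = conj (e₀ (g'⁻¹ • x)) := by
  have h1 := h.repr_conj (h.inv g'⁻¹ _ h.mem) hg
  have h2 := h.repr_conj (h.inv g⁻¹ _ h.mem) hg'
  have h3 := congrArg conj h1
  rw [map_sum, map_mul, conj_SS] at h3
  refine mul_left_cancel₀ h.SS_ne_zero ?_
  rw [← h2, ← h3]
  refine Finset.sum_congr rfl fun y _ => ?_
  rw [map_mul, Complex.conj_conj, mul_comm]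

theorem repr (h : Sph G x₀ V e₀) {f : X → ℂ} (hf : f ∈ V) (s : X → G) (hs : ∀ x, s x • x₀ = x) (y : X) :
    ∑ x, f x * e₀ ((s x)⁻¹ • y) = SS e₀ * f y := by
  rw [← h.repr_conj hf (hs y)]
  refine Finset.sum_congr rfl fun x _ => ?_
  rw [h.herm (hs x) (hs y)]

end avg

/-- the representation -/
noncomputable def rep (h : Sph G x₀ V e₀) : Representation ℂ G V where
  toFun := fun g =>
    { toFun := fun φ => ⟨fun x => (φ : X → ℂ) (g⁻¹ • x), h.inv _ φ φ.2⟩
      map_add' := fun _ _ => rfl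
      map_smul' := fun _ _ => rfl }
  map_one' := by
    refine LinearMap.ext fun φ => Subtype.ext (funext fun x => ?_)
    show (φ : X → ℂ) ((1 : G)⁻¹ • x) = (φ : X → ℂ) x
    rw [inv_one, one_smul]
  map_mul' := fun g h => by
    refine LinearMap.ext fun φ => Subtype.ext (funext fun x => ?_)
    show (φ : X → ℂ) ((g * h)⁻¹ • x) = (φ : X → ℂ) (h⁻¹ • g⁻¹ • x)
    rw [mul_inv_rev, mul_smul]

theorem rep_apply (h : Sph G x₀ V e₀) (g : G) (φ : V) (x : X) : ((h.rep g φ : V) : X → ℂ) x = (φ : X → ℂ) (g⁻¹ • x) :=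
  rfl

/-- the evaluation -/
noncomputable def ev (V : Submodule ℂ (X → ℂ)) (x : X) : V →ₗ[ℂ] ℂ where
  toFun φ := (φ : X → ℂ) x
  map_add' _ _ := rfl
  map_smul' _ _ := rfl

/-- the translate of the spherical function -/
noncomputable def tra (h : Sph G x₀ V e₀) (g : G) : V := ⟨fun y => e₀ (g⁻¹ • y), h.inv _ _ h.mem⟩

theorem character_eq [Finite G] (h : Sph G x₀ V e₀) (s : X → G) (hs : ∀ x, s x • x₀ = x) (g : G) :
    SS e₀ * h.rep.character g = ∑ x, e₀ ((s x)⁻¹ • g⁻¹ • x) := by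
  have h1 : SS e₀ • h.rep g = ∑ x, (ev V x).smulRight (h.rep g (h.tra (s x))) := by
    refine LinearMap.ext fun φ => ?_
    have h2 : SS e₀ • φ = ∑ x, (φ : X → ℂ) x • h.tra (s x) := by
      refine Subtype.ext (funext fun y => ?_)
      show SS e₀ * (φ : X → ℂ) y = ((∑ x, (φ : X → ℂ) x • h.tra (s x) : V) : X → ℂ) y
      rw [← h.repr φ.2 s hs y]
      rw [Submodule.coe_sum, Finset.sum_apply]
      rfl
    rw [LinearMap.smul_apply, ← map_smul, h2, map_sum, LinearMap.sum_apply]
    refine Finset.sum_congr rfl fun x _ => ?_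
    rw [map_smul, LinearMap.smulRight_apply]
    rfl
  show SS e₀ * LinearMap.trace ℂ V (h.rep g) = _
  rw [← smul_eq_mul, ← map_smul, h1, map_sum]
  refine Finset.sum_congr rfl fun x _ => ?_
  rw [LinearMap.trace_smulRight]
  rfl

theorem sum_character [Finite G] (h : Sph G x₀ V e₀) [Fintype (MulAction.stabilizer G x₀)] (g : G) :
    ∑ q : MulAction.stabilizer G x₀, h.rep.character (g * q) =
      (Fintype.card (MulAction.stabilizer G x₀) : ℂ) * e₀ (g⁻¹ • x₀) := by
  have h1 : ∑ q : MulAction.stabilizer G x₀, h.rep (g * q) =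
      (Fintype.card (MulAction.stabilizer G x₀) : ℂ) • (ev V x₀).smulRight (h.rep g (h.tra 1)) := by
    refine LinearMap.ext fun φ => Subtype.ext (funext fun y => ?_)
    rw [LinearMap.sum_apply, Submodule.coe_sum, Finset.sum_apply]
    have h2 : ∀ q : MulAction.stabilizer G x₀, ((h.rep (g * q) φ : V) : X → ℂ) y =
        (φ : X → ℂ) (((q⁻¹ : MulAction.stabilizer G x₀) : G) • g⁻¹ • y) := by
      intro q
      rw [rep_apply, mul_inv_rev, mul_smul]
      rfl
    have h3 : ∑ q : MulAction.stabilizer G x₀, (φ : X → ℂ) (((q⁻¹ : MulAction.stabilizer G x₀) : G) • g⁻¹ • y) =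
        ∑ q : MulAction.stabilizer G x₀, (φ : X → ℂ) ((q : G) • g⁻¹ • y) :=
      Fintype.sum_equiv (Equiv.inv (MulAction.stabilizer G x₀)) _ _ fun q => rfl
    rw [Finset.sum_congr rfl fun q _ => h2 q, h3, h.avg φ.2]
    show _ = (Fintype.card (MulAction.stabilizer G x₀) : ℂ) * ((φ : X → ℂ) x₀ * e₀ ((1 : G)⁻¹ • g⁻¹ • y))
    rw [inv_one, one_smul]
    ring
  have h3 : ∑ q : MulAction.stabilizer G x₀, h.rep.character (g * q) =
      LinearMap.trace ℂ V (∑ q : MulAction.stabilizer G x₀, h.rep (g * q)) := by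
    rw [map_sum]
    rfl
  rw [h3, h1, map_smul, LinearMap.trace_smulRight, smul_eq_mul]
  congr 1
  show e₀ ((1 : G)⁻¹ • g⁻¹ • x₀) = _
  rw [inv_one, one_smul]

theorem irr [Finite G] (h : Sph G x₀ V e₀) : h.rep.IsIrreducible := by
  have : Fintype (MulAction.stabilizer G x₀) := Fintype.ofFinite _
  have hc : (Fintype.card (MulAction.stabilizer G x₀) : ℂ) ≠ 0 := by
    exact_mod_cast Fintype.card_ne_zero
  choose s hs using h.tr
  have hne : e₀ ≠ 0 := by
    intro h0
    have h1 := congrFun h0 x₀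
    rw [h.one] at h1
    exact one_ne_zero h1
  refine { exists_pair_ne := ⟨⊥, ⊤, ?_⟩, eq_bot_or_eq_top := ?_ }
  · intro heq
    have h1 : (⊤ : Subrepresentation h.rep).toSubmodule = ⊥ := by
      rw [← heq]; rfl
    have h2 : (⟨e₀, h.mem⟩ : V) ∈ (⊤ : Subrepresentation h.rep).toSubmodule := Submodule.mem_top
    rw [h1, Submodule.mem_bot] at h2
    exact hne (congrArg Subtype.val h2)
  · intro N
    by_cases hN : N.toSubmodule = ⊥
    · left
      apply Subrepresentation.toSubmodule_injective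
      exact hN
    · right
      apply Subrepresentation.toSubmodule_injective
      show N.toSubmodule = ⊤
      -- a member with a non-zero value at the base point
      obtain ⟨φ, hφ, hφ0⟩ : ∃ φ ∈ N.toSubmodule, (φ : X → ℂ) x₀ ≠ 0 := by
        obtain ⟨φ, hφ, hφ0⟩ := (Submodule.ne_bot_iff _).1 hN
        obtain ⟨x, hx⟩ : ∃ x, (φ : X → ℂ) x ≠ 0 := by
          by_contra hcon
          push Not at hcon
          exact hφ0 (Subtype.ext (funext hcon))
        refine ⟨h.rep (s x)⁻¹ φ, N.apply_mem_toSubmodule _ hφ, ?_⟩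
        rw [rep_apply, inv_inv, hs]
        exact hx
      have he : (⟨e₀, h.mem⟩ : V) ∈ N.toSubmodule := by
        have h1 : ∑ q : MulAction.stabilizer G x₀, h.rep ((q : G))⁻¹ φ ∈ N.toSubmodule :=
          N.toSubmodule.sum_mem fun q _ => N.apply_mem_toSubmodule _ hφ
        have h2 : ∑ q : MulAction.stabilizer G x₀, h.rep ((q : G))⁻¹ φ =
            ((Fintype.card (MulAction.stabilizer G x₀) : ℂ) * (φ : X → ℂ) x₀) • (⟨e₀, h.mem⟩ : V) := by
          refine Subtype.ext (funext fun y => ?_)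
          rw [Submodule.coe_sum, Finset.sum_apply]
          have h3 : ∀ q : MulAction.stabilizer G x₀, ((h.rep ((q : G))⁻¹ φ : V) : X → ℂ) y =
              (φ : X → ℂ) ((q : G) • y) := by
            intro q
            rw [rep_apply, inv_inv]
          rw [Finset.sum_congr rfl fun q _ => h3 q, h.avg φ.2]
          rfl
        rw [h2] at h1
        exact (Submodule.smul_mem_iff _ (mul_ne_zero hc hφ0)).1 h1
      have ht : ∀ g, h.tra g ∈ N.toSubmodule := fun g => N.apply_mem_toSubmodule g he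
      rw [eq_top_iff]
      intro ψ _
      have h2 : SS e₀ • ψ = ∑ x, (ψ : X → ℂ) x • h.tra (s x) := by
        refine Subtype.ext (funext fun y => ?_)
        show SS e₀ * (ψ : X → ℂ) y = ((∑ x, (ψ : X → ℂ) x • h.tra (s x) : V) : X → ℂ) y
        rw [← h.repr ψ.2 s hs y]
        rw [Submodule.coe_sum, Finset.sum_apply]
        rfl
      have h3 : SS e₀ • ψ ∈ N.toSubmodule := by
        rw [h2]
        exact N.toSubmodule.sum_mem fun x _ => N.toSubmodule.smul_mem _ (ht _)
      exact (Submodule.smul_mem_iff _ h.SS_ne_zero).1 h3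

/-- **The irreducible character of a spherical function.** -/
theorem exists_irr [Finite G] (h : Sph G x₀ V e₀) : ∃ χ : G → ℂ, IsIrrCharacter G χ ∧
    (∀ s : X → G, (∀ x, s x • x₀ = x) → ∀ g, SS e₀ * χ g = ∑ x, e₀ ((s x)⁻¹ • g⁻¹ • x)) ∧
    ∀ (_ : Fintype (MulAction.stabilizer G x₀)) (g : G), ∑ q : MulAction.stabilizer G x₀, χ (g * q) =
      (Fintype.card (MulAction.stabilizer G x₀) : ℂ) * e₀ (g⁻¹ • x₀) :=
  ⟨_, isIrrCharacter_of_rep _ h.irr, fun s hs g => h.character_eq s hs g, fun _ g => h.sum_character g⟩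

end Sph

/-! ### From a collapsed adjacency matrix -/

variable [Finite G]

/-- The irreducible character `χ` belongs to the spherical function `x ↦ a (cls x)`. -/
structure Val {G : Type u} [Group G] {X : Type} [Fintype X] [MulAction G X] (x₀ : X) {n : ℕ} (cls : X → Fin n)
    (a : Fin n → ℂ) (d : ℕ) (χ : G → ℂ) : Prop where
  irr : IsIrrCharacter G χ
  deg : χ 1 = d
  val : ∀ s : X → G, (∀ x, s x • x₀ = x) → ∀ g, (Fintype.card X : ℂ) * χ g = d * ∑ x, a (cls ((s x)⁻¹ • g⁻¹ • x))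
  sum : ∀ (_ : Fintype (MulAction.stabilizer G x₀)) (g : G), ∑ q : MulAction.stabilizer G x₀, χ (g * q) =
      (Fintype.card (MulAction.stabilizer G x₀) : ℂ) * a (cls (g⁻¹ • x₀))

/-- Different spherical functions, different characters. -/
theorem Val.ne {x₀ : X} {n : ℕ} {cls : X → Fin n} {a a' : Fin n → ℂ} {d d' : ℕ} {χ χ' : G → ℂ}
    (h : Val x₀ cls a d χ) (h' : Val x₀ cls a' d' χ') {g : G} (hne : a (cls (g⁻¹ • x₀)) ≠ a' (cls (g⁻¹ • x₀))) :
    χ ≠ χ' := by
  have : Fintype (MulAction.stabilizer G x₀) := Fintype.ofFinite _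
  have hc : (Fintype.card (MulAction.stabilizer G x₀) : ℂ) ≠ 0 := by
    exact_mod_cast Fintype.card_ne_zero
  rintro rfl
  exact hne (mul_left_cancel₀ hc ((h.sum inferInstance g).symm.trans (h'.sum inferInstance g)))

/-- The values are rational combinations of the values of the spherical function. -/
theorem Val.exists_rat {x₀ : X} {n : ℕ} {cls : X → Fin n} {a : Fin n → ℂ} {d : ℕ} {χ : G → ℂ}
    (h : Val x₀ cls a d χ) (hX : ∀ x : X, ∃ g : G, g • x₀ = x) (g : G) :
    ∃ q : Fin n → ℚ, χ g = ∑ i, (q i : ℂ) * a i := by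
  classical
  choose s hs using hX
  have h1 := h.val s hs g
  have hc : (Fintype.card X : ℂ) ≠ 0 := by
    have : Nonempty X := ⟨x₀⟩
    exact_mod_cast Fintype.card_ne_zero
  refine ⟨fun i => (d : ℚ) / Fintype.card X * (Finset.univ.filter fun x => cls ((s x)⁻¹ • g⁻¹ • x) = i).card, ?_⟩
  have h2 : ∑ x, a (cls ((s x)⁻¹ • g⁻¹ • x)) =
      ∑ i, ((Finset.univ.filter fun x => cls ((s x)⁻¹ • g⁻¹ • x) = i).card : ℂ) * a i := by
    rw [← Finset.sum_fiberwise_of_maps_to (s := Finset.univ) (t := Finset.univ)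
      (g := fun x => cls ((s x)⁻¹ • g⁻¹ • x)) (fun _ _ => Finset.mem_univ _)]
    refine Finset.sum_congr rfl fun i _ => ?_
    rw [Finset.sum_congr rfl (g := fun _ => a i) (fun x hx => by rw [(Finset.mem_filter.1 hx).2]), Finset.sum_const,
      nsmul_eq_mul]
  rw [h2] at h1
  refine mul_left_cancel₀ hc ?_
  rw [h1, Finset.mul_sum, Finset.mul_sum]
  refine Finset.sum_congr rfl fun i _ => ?_
  push_cast
  field_simp

theorem Val.of_sph {x₀ : X} {n : ℕ} {cls : X → Fin n} {a : Fin n → ℂ} {V : Submodule ℂ (X → ℂ)}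
    (h : Sph G x₀ V (fun x => a (cls x))) (k : Fin n → ℕ)
    (hk : ∀ i, (Finset.univ.filter fun y => cls y = i).card = k i) (d : ℕ)
    (hsumd : (d : ℂ) * ∑ i, (k i : ℂ) * (a i * conj (a i)) = Fintype.card X) :
    ∃ χ : G → ℂ, Val x₀ cls a d χ := by
  classical
  obtain ⟨χ, hχ, h1, h2⟩ := h.exists_irr
  have hS : (d : ℂ) * Sph.SS (fun x => a (cls x)) = Fintype.card X := by
    rw [← hsumd]
    congr 1
    unfold Sph.SS
    rw [← Finset.sum_fiberwise_of_maps_to (s := Finset.univ) (t := Finset.univ) (g := cls)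
      (fun _ _ => Finset.mem_univ _)]
    refine Finset.sum_congr rfl fun i _ => ?_
    rw [Finset.sum_congr rfl (g := fun _ => a i * conj (a i)) (fun x hx => by
      show a (cls x) * conj (a (cls x)) = _
      rw [(Finset.mem_filter.1 hx).2]), Finset.sum_const, nsmul_eq_mul, hk]
  have hval : ∀ s : X → G, (∀ x, s x • x₀ = x) → ∀ g,
      (Fintype.card X : ℂ) * χ g = d * ∑ x, a (cls ((s x)⁻¹ • g⁻¹ • x)) := by
    intro s hs g
    rw [← hS, mul_assoc, h1 s hs g]
  refine ⟨χ, hχ, ?_, hval, h2⟩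
  choose s hs using h.tr
  have hc : (Fintype.card X : ℂ) ≠ 0 := by
    have : Nonempty X := ⟨x₀⟩
    exact_mod_cast Fintype.card_ne_zero
  have h3 := hval s hs 1
  have h4 : ∀ x, a (cls ((s x)⁻¹ • (1 : G)⁻¹ • x)) = 1 := by
    intro x
    have h5 : (s x)⁻¹ • (1 : G)⁻¹ • x = x₀ := by
      rw [inv_one, one_smul, inv_smul_eq_iff, hs]
    rw [h5]
    exact h.one
  simp only [h4, Finset.sum_const, Finset.card_univ, nsmul_eq_mul, mul_one] at h3
  exact mul_left_cancel₀ hc (h3.trans (mul_comm _ _))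

/-- the graph version -/
theorem exists_of_graph (E : X → X → Bool) (hE : ∀ (g : G) x y, E (g • x) (g • y) = E x y) (x₀ : X) {n : ℕ}
    (cls : X → Fin n) (r : Fin n → X) (hcls : ∀ g : G, g • x₀ = x₀ → ∀ x, cls (g • x) = cls x)
    (htr : ∀ x, ∃ g : G, g • x₀ = x₀ ∧ g • r (cls x) = x) (B : Fin n → Fin n → ℕ)
    (hB : ∀ i j, (Finset.univ.filter fun y => E (r i) y = true ∧ cls y = j).card = B i j)
    (a : Fin n → ℂ) (t : ℂ) (hBa : ∀ i, ∑ j, (B i j : ℂ) * a j = t * a i)
    (huniq : ∀ a' : Fin n → ℂ, (∀ i, ∑ j, (B i j : ℂ) * a' j = t * a' i) → ∀ i, a' i = a' (cls x₀) * a i)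
    (ha : a (cls x₀) = 1) (hX : ∀ x : X, ∃ g : G, g • x₀ = x) (k : Fin n → ℕ)
    (hk : ∀ i, (Finset.univ.filter fun y => cls y = i).card = k i) (d : ℕ)
    (hsumd : (d : ℂ) * ∑ i, (k i : ℂ) * (a i * conj (a i)) = Fintype.card X) :
    ∃ χ : G → ℂ, Val x₀ cls a d χ := by
  classical
  -- the sum over the neighbours of a representative
  have hsum : ∀ (a' : Fin n → ℂ) i, ∑ y, (if E (r i) y = true then a' (cls y) else 0) = ∑ j, (B i j : ℂ) * a' j := by
    intro a' i
    rw [← Finset.sum_filter, ← Finset.sum_fiberwise_of_maps_to (t := Finset.univ) (g := cls)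
      (fun _ _ => Finset.mem_univ _)]
    refine Finset.sum_congr rfl fun j _ => ?_
    rw [Finset.filter_filter]
    have h1 : ∀ y ∈ Finset.univ.filter (fun y => E (r i) y = true ∧ cls y = j), a' (cls y) = a' j := by
      intro y hy
      rw [(Finset.mem_filter.1 hy).2.2]
    rw [Finset.sum_congr rfl h1, Finset.sum_const, nsmul_eq_mul, hB]
  let V : Submodule ℂ (X → ℂ) :=
    { carrier := {φ | ∀ x, ∑ y, (if E x y = true then φ y else 0) = t * φ x}
      add_mem' := by
        intro φ ψ h1 h2 x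
        have h3 : ∀ y, (if E x y = true then (φ + ψ) y else 0) =
            (if E x y = true then φ y else 0) + if E x y = true then ψ y else 0 := by
          intro y
          by_cases h : E x y = true
          · rw [if_pos h, if_pos h, if_pos h, Pi.add_apply]
          · rw [if_neg h, if_neg h, if_neg h, add_zero]
        rw [Finset.sum_congr rfl fun y _ => h3 y, Finset.sum_add_distrib, h1 x, h2 x, Pi.add_apply]
        ring
      zero_mem' := by
        intro x
        simp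
      smul_mem' := by
        intro c φ h1 x
        have h3 : ∀ y, (if E x y = true then (c • φ) y else 0) = c * if E x y = true then φ y else 0 := by
          intro y
          by_cases h : E x y = true
          · rw [if_pos h, if_pos h, Pi.smul_apply, smul_eq_mul]
          · rw [if_neg h, if_neg h, mul_zero]
        rw [Finset.sum_congr rfl fun y _ => h3 y, ← Finset.mul_sum, h1 x, Pi.smul_apply, smul_eq_mul]
        ring }
  have hV : ∀ φ : X → ℂ, φ ∈ V ↔ ∀ x, ∑ y, (if E x y = true then φ y else 0) = t * φ x := fun _ => Iff.rfl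
  have htrans : ∀ (g : G) (φ : X → ℂ) x, ∑ y, (if E x y = true then φ (g⁻¹ • y) else 0) =
      ∑ y, (if E (g⁻¹ • x) y = true then φ y else 0) := by
    intro g φ x
    rw [← Equiv.sum_comp (MulAction.toPerm g) fun y => (if E x y = true then φ (g⁻¹ • y) else 0)]
    refine Finset.sum_congr rfl fun y _ => ?_
    rw [MulAction.toPerm_apply, inv_smul_smul]
    have h1 : E x (g • y) = E (g⁻¹ • x) y := by
      rw [← hE g (g⁻¹ • x) y, smul_inv_smul]
    rw [h1]
  have hVG : ∀ (g : G) (φ : X → ℂ), φ ∈ V → (fun x => φ (g⁻¹ • x)) ∈ V := by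
    intro g φ h1
    rw [hV] at h1 ⊢
    intro x
    rw [htrans, h1]
  have he : (fun x => a (cls x)) ∈ V := by
    rw [hV]
    intro x
    obtain ⟨g, hg, hx⟩ := htr x
    have h1 := htrans g⁻¹ (fun y => a (cls y)) (r (cls x))
    rw [inv_inv, hx] at h1
    rw [← h1]
    have h2 : ∀ y, (if E (r (cls x)) y = true then a (cls (g • y)) else 0) =
        if E (r (cls x)) y = true then a (cls y) else 0 := by
      intro y
      rw [hcls g hg]
    rw [Finset.sum_congr rfl fun y _ => h2 y, hsum, hBa]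
  refine Val.of_sph (V := V) ⟨?_, he, ?_, ha, ?_, hX⟩ k hk d hsumd
  · intro g f hf
    have h1 := hVG g⁻¹ f hf
    rw [inv_inv] at h1
    exact h1
  · intro g hg x
    show a (cls (g • x)) = a (cls x)
    rw [hcls _ hg]
  · intro φ hφV hl
    let a' : Fin n → ℂ := fun i => φ (r i)
    have haφ : ∀ x, φ x = a' (cls x) := by
      intro x
      obtain ⟨g, hg, hx⟩ := htr x
      show φ x = φ (r (cls x))
      rw [← hl g hg (r (cls x)), hx]
    have h2 : ∀ i, ∑ j, (B i j : ℂ) * a' j = t * a' i := by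
      intro i
      rw [← hsum a' i]
      have h3 := (hV φ).1 hφV (r i)
      rw [Finset.sum_congr rfl fun y _ => by rw [haφ y]] at h3
      exact h3
    refine ⟨a' (cls x₀), funext fun x => ?_⟩
    show φ x = a' (cls x₀) * a (cls x)
    rw [haφ, huniq a' h2]

/-- **Orbital version.** `cls` classifies the orbits of the stabiliser of `x₀`, `γ i` maps `x₀` to the representative
`r i`, `B i j` counts the points `z` of class `c` with `γ i • z` of class `j`. -/
theorem exists_of_orbital (x₀ : X) {n : ℕ} (cls : X → Fin n) (r : Fin n → X)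
    (hcls : ∀ g : G, g • x₀ = x₀ → ∀ x, cls (g • x) = cls x)
    (htr : ∀ x, ∃ g : G, g • x₀ = x₀ ∧ g • r (cls x) = x) (c : Fin n) (γ : Fin n → G) (hγ : ∀ i, γ i • x₀ = r i)
    (B : Fin n → Fin n → ℕ)
    (hB : ∀ i j, (Finset.univ.filter fun z => cls z = c ∧ cls (γ i • z) = j).card = B i j)
    (a : Fin n → ℂ) (t : ℂ) (hBa : ∀ i, ∑ j, (B i j : ℂ) * a j = t * a i)
    (huniq : ∀ a' : Fin n → ℂ, (∀ i, ∑ j, (B i j : ℂ) * a' j = t * a' i) → ∀ i, a' i = a' (cls x₀) * a i)
    (ha : a (cls x₀) = 1) (hX : ∀ x : X, ∃ g : G, g • x₀ = x) (k : Fin n → ℕ)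
    (hk : ∀ i, (Finset.univ.filter fun y => cls y = i).card = k i) (d : ℕ)
    (hsumd : (d : ℂ) * ∑ i, (k i : ℂ) * (a i * conj (a i)) = Fintype.card X) :
    ∃ χ : G → ℂ, Val x₀ cls a d χ := by
  classical
  obtain ⟨E, hE⟩ : ∃ E : X → X → Bool, ∀ x y, E x y = true ↔ ∃ g : G, g • x₀ = x ∧ cls (g⁻¹ • y) = c :=
    ⟨fun x y => decide (∃ g : G, g • x₀ = x ∧ cls (g⁻¹ • y) = c), fun x y => by rw [decide_eq_true_iff]⟩
  have hEr : ∀ i y, E (r i) y = true ↔ cls ((γ i)⁻¹ • y) = c := by
    intro i y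
    rw [hE]
    constructor
    · rintro ⟨h, h1, h2⟩
      have h3 : (h⁻¹ * γ i) • x₀ = x₀ := by rw [mul_smul, hγ, ← h1, inv_smul_smul]
      have h4 := hcls _ h3 ((γ i)⁻¹ • y)
      rw [mul_smul, smul_inv_smul] at h4
      rw [← h4, h2]
    · intro h
      exact ⟨γ i, hγ i, h⟩
  refine exists_of_graph E ?_ x₀ cls r hcls htr B ?_ a t hBa huniq ha hX k hk d hsumd
  · intro g x y
    rw [Bool.eq_iff_iff, hE, hE]
    constructor
    · rintro ⟨h, h1, h2⟩
      refine ⟨g⁻¹ * h, by rw [mul_smul, h1, inv_smul_smul], ?_⟩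
      rw [mul_inv_rev, inv_inv, mul_smul]
      exact h2
    · rintro ⟨h, h1, h2⟩
      refine ⟨g * h, by rw [mul_smul, h1], ?_⟩
      rw [mul_inv_rev, mul_smul, inv_smul_smul]
      exact h2
  · intro i j
    rw [← hB i j]
    symm
    refine Finset.card_bij (fun z _ => γ i • z) ?_ ?_ ?_
    · intro z hz
      obtain ⟨-, h1, h2⟩ := Finset.mem_filter.1 hz
      refine Finset.mem_filter.2 ⟨Finset.mem_univ _, (hEr i _).2 ?_, h2⟩
      rw [inv_smul_smul, h1]
    · intro z _ z' _ h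
      exact smul_left_cancel _ h
    · intro y hy
      obtain ⟨-, h1, h2⟩ := Finset.mem_filter.1 hy
      refine ⟨(γ i)⁻¹ • y, Finset.mem_filter.2 ⟨Finset.mem_univ _, (hEr i y).1 h1, ?_⟩, smul_inv_smul _ _⟩
      rw [smul_inv_smul]
      exact h2

end Cfsg.Agent.H329.K4.Orb
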